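import Mathlib
import Cfsg.Agent.UFiveTwo.AutOut_mg_m3
import Cfsg.Agent.UFiveTwo.VFacts
import Cfsg.Agent.OddHalf.D8.RuFam.PlaneRu_m3
import Cfsg.Agent.Lib.MatDec
import Cfsg.Agent.UFiveTwo.POneFull_mg_m3
import Cfsg.Agent.Prune
set_option linter.all false

section
prune_inst 0x7f00000000000000000000000000000000000000000000000000000000000000000000000000000000000000000000000000000000000000000000000000000000000000000000000000000000000000003fffffffffffffffffffffffffffbeffbdffffffff

-- part: OddHalf/D4/UFiveTwo/KSide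
section
set_option linter.all false
open scoped Cfsg.Agent.FastGrp

/-!
# ODD half, D4, `K ≅ U₅(2)`: facts on `K` (involutions, `Bad`, balance)

`F : Flag (⊤ : Subgroup K)`, `FA : FlagAut ⊤ F` (helper414, helper686, helper770).
-/

set_option autoImplicit false
set_option linter.unusedSectionVars false

namespace Cfsg.Agent.OddHalf.D4.UFiveTwo

open Subgroup Cfsg.Agent.UFiveTwo Cfsg.Agent.StdEven.Syl Cfsg.Agent.OddHalf.D4.Spor
open Cfsg.Agent.OddHalf.D4.ThreeD4Two (eq_one_of_odd eq_bot_of_four cen_of_conj bad_map card_mul_relIndex card_le_of_conj)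
open Equiv (Perm swap)

universe u

section Dec

end Dec

variable {K : Type u} [Group K] {F : _root_.Cfsg.Agent.UFiveTwo.Flag (⊤ : Subgroup K)} (FA : FlagAut (⊤ : Subgroup K) F)

theorem mem_norm_top (g : K) : g ∈ normalizer ((⊤ : Subgroup K) : Set K) := by
  rw [mem_normalizer_iff]
  intro h
  exact ⟨fun _ => mem_top _, fun _ => mem_top _⟩

include FA

theorem cent_one {c : K} (hc : c ∈ centralizer ((⊤ : Subgroup K) : Set K)) : c = 1 := FA.cent c (mem_top _) hc

theorem cQ' {g : K} (hg : ∀ q ∈ F.Q, g * q = q * g) : g = 1 ∨ g = F.r 0 := by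
  obtain ⟨c, hc, e⟩ := FA.cQ g (mem_norm_top g) hg
  rw [cent_one FA hc, one_mul] at e
  exact e

omit FA

end Cfsg.Agent.OddHalf.D4.UFiveTwo
end

-- part: OddHalf/D4/UFiveTwo/Bal
section
set_option linter.all false
open scoped Cfsg.Agent.FastGrp

/-!
# ODD half, D4, `K ≅ U₅(2)`: centre of a Sylow 2-subgroup, balance
-/

set_option autoImplicit false
set_option linter.unusedSectionVars false

namespace Cfsg.Agent.OddHalf.D4.UFiveTwo

open Subgroup Cfsg.Agent.UFiveTwo Cfsg.Agent.StdEven.Syl Cfsg.Agent.OddHalf.D4.Spor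
open Cfsg.Agent.OddHalf.D4.ThreeD4Two (eq_one_of_odd eq_bot_of_four cen_of_conj bad_map card_mul_relIndex card_le_of_conj)
open Equiv (Perm swap)

universe u

variable {K : Type u} [Group K] {F : Flag (⊤ : Subgroup K)} (FA : FlagAut (⊤ : Subgroup K) F)

include FA

/-- every Sylow 2-subgroup is conjugate to `U Q` -/
theorem exists_conj_T [Finite K] (S : Sylow 2 K) : ∃ p : K, ∀ y, y ∈ S ↔ p * y * p⁻¹ ∈ F.U ⊔ F.Q := by
  obtain ⟨P, hP⟩ := FA.syl.exists_sylow
  obtain ⟨g, hg⟩ := MulAction.exists_smul_eq K P S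
  refine ⟨g⁻¹, fun y => ?_⟩
  have h1 : (S : Subgroup K) = (P : Subgroup K).map (MulAut.conj g).toMonoidHom := by
    rw [← hg]; rfl
  show y ∈ (S : Subgroup K) ↔ _
  rw [h1, hP, mem_map_conj, inv_inv]

omit FA

theorem two_Q (FA : FlagAut (⊤ : Subgroup K) F) : IsPGroup 2 ↥F.Q := FA.syl.two.to_le le_sup_right

include FA

end Cfsg.Agent.OddHalf.D4.UFiveTwo
end

-- part: OddHalf/D4/UFiveTwo/Aut
section
set_option linter.all false

/-!
# ODD half, D4, `K ≅ U₅(2)`: the automorphism group and the fact sheet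

`P1` (helper770) is applied twice: to `⊤ ≤ K` and to `Inn(K) ≤ Aut(K)`.
-/

set_option autoImplicit false
set_option linter.unusedSectionVars false

namespace Cfsg.Agent.OddHalf.D4.UFiveTwo

open Subgroup Cfsg.Agent.UFiveTwo Cfsg.Agent.StdEven.Syl Cfsg.Agent.OddHalf.D4.Spor

universe u

variable {K : Type u} [Group K]

/-- `Inn(K)` -/
abbrev In (K : Type u) [Group K] : Subgroup (MulAut K) := (MulAut.conj : K →* MulAut K).range

section Auts

variable (hZ : center K = ⊥) {F : Flag (In K)} (FA : FlagAut (In K) F)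

include hZ

include FA

end Auts

end Cfsg.Agent.OddHalf.D4.UFiveTwo
end

-- part: OddHalf/D4/UFiveTwo/Sheet
section
set_option linter.all false

/-!
# ODD half, D4, `K ≅ U₅(2)`: the fact sheet
-/

set_option autoImplicit false

namespace Cfsg.Agent.OddHalf.D4.UFiveTwo

open Cfsg.Agent.OddHalf.D4.Spor

universe u

end Cfsg.Agent.OddHalf.D4.UFiveTwo
end
end
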